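import Cfsg.Agent.J3S.A
import Cfsg.Agent.J3T.A

/-! The 2-groups of type `J₂`: existence and transport. -/

set_option autoImplicit false
set_option linter.unusedSectionVars false

namespace Cfsg.Agent.J2T

open Subgroup Cfsg.Agent.H10 Cfsg.Agent.JR
open scoped commutatorElement Pointwise

variable {G : Type*} [Group G] [Finite G]

namespace JD

variable {Q P : Subgroup G} {z s σ ρ t x y u a q g v w : G} (h : JD Q P z s σ ρ t)
include h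

theorem QU (hx : x ∈ Q ⊔ RR Q P z s) : ∃ q ∈ Q, ∃ u ∈ UU Q P z s ρ, q * u = x := by
  have a1 : UU Q P z s ρ ≤ normalizer (Q : Set G) := fun u hu => h.wq.mem_normalizer (h.Rz hu.1)
  refine (H1.mem_sup_of_le_normalizer_left a1).1 ((eq_of_le_of_card_ge
    (sup_le_sup_left (inf_le_left : UU Q P z s ρ ≤ _) Q) ?_).ge hx)
  rw [H1.card_sup_of_disjoint a1 (eq_bot_iff.2 fun u hu => h.UQ hu.2 hu.1), h.cardT, h.wq.cq,
    h.cardU]
  norm_num

theorem zV (hx : x ∈ zpowers z) : x ∈ Vs z s := zpowers_le.2 (show z ∈ Vs z s from Pr.z_mem) hx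

theorem cs' (ha : a ∈ Q) (e : a * s ≠ s * a) (hx : x ∈ Q ⊔ RR Q P z s) (e' : ⁅x, a⁆ ∈ zpowers z) :
    x ∈ Q := by
  obtain ⟨q, hq, u, hu, rfl⟩ := h.QU hx
  refine mul_mem hq (h.memQ ha e hu.1 (h.zV ?_))
  have a1 := h.wq.comm_mem ha hq
  have a2 : ⁅a, u⁆ = q⁻¹ * (⁅a, q⁆⁻¹ * ⁅q * u, a⁆⁻¹) * q := by
    simp only [commutatorElement_def]; group
  have a3 := mul_mem (inv_mem a1) (inv_mem e')
  rwa [a2, mul_assoc, ← h.wq.comm_of_mem_z a3 (h.wq.cent q hq), inv_mul_cancel_left]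

theorem exists_n : ∃ n ∈ Q, n * n = z ∧ n * s = s * n ∧ n * t * n⁻¹ = z * t := by
  have h1 := card_mul_cls (Q ⊓ Ce s) t
  rw [show Ce t ⊓ (Q ⊓ Ce s) = Vs z s from le_antisymm (fun x hx => h.QCt.le ⟨hx.2.1, hx.1⟩)
    (le_inf (h.QCt.ge.trans inf_le_right) h.VQ1), h.cardV, h.cardQ1] at h1
  obtain ⟨n, hn, e⟩ := (Set.eq_of_subset_of_ncard_le (show cls (Q ⊓ Ce s) t ⊆
    (· * t) '' (Vs z s : Set G) from fun _ ⟨r, hr, e⟩ =>
      ⟨_, h.commR (mem_sup_right hr) h.tR, by simp [← e, commutatorElement_def]⟩) (by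
      rw [Set.ncard_image_of_injective _ (mul_left_injective t), ncard_coe, h.cardV]
      omega)).ge ⟨z, Pr.z_mem, rfl⟩
  refine ⟨n, hn.1, h.sqQ hn fun e' => h.wq.ne_one ?_, mem_Ce.1 hn.2, e⟩
  rwa [mem_Ce.1 (h.QCt.ge e').2, mul_inv_cancel_right, eq_comm, mul_eq_right] at e

theorem sy : SY (Q ⊔ RR Q P z s) Q z s := by
  have cz : ∀ x ∈ Q ⊔ RR Q P z s, x * z = z * x := fun x hx => mem_Ce.1 (h.T_le hx).1
  have cs : ∀ a ∈ Om Q z, a * s ≠ s * a → ∀ x ∈ Q ⊔ RR Q P z s, ⁅x, a⁆ ∈ zpowers z → x ∈ Q :=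
    fun a ha e x hx => h.cs' ha.1 e hx
  refine ⟨h.wq.toXS, le_sup_left, h.cardT, h.wq.cq, fun x hx q hq => h.wq.conj_mem (cz x hx) hq,
    cz, h.sOm, (h.wq.main h.sOm).1, fun a ha => (h.wq.main ha).2, fun x hx => ?_,
    fun x hx e => ?_, fun x hx => ?_, cs, fun x hx => ?_, fun y hy h1 h2 => ?_⟩
  · refine (h.conjV (h.T_le hx).2 Pr.t_mem h.wp.ne_one).resolve_left fun e => h.l.ne ?_
    rwa [mul_inv_eq_iff_eq_mul, ← cz x hx, mul_right_inj] at e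
  · obtain ⟨q, hq, u, hu, rfl⟩ := h.QU hx
    by_cases u1 : u = 1
    · simpa [u1] using hq
    have h' := h.swap hu u1
    have a1 : u * q * u⁻¹ = q⁻¹ * z := by rw [← e, inv_eq_of_mul_eq_one_right h'.tt]; group
    by_cases e' : q * s = s * q
    · exfalso
      by_cases hv : q ∈ Vs z s
      · rw [← h.RV hu.1 hv, mul_inv_cancel_right, eq_inv_mul_iff_mul_eq,
          H11.klein_sq h.klein hv] at a1
        exact h.wq.ne_one a1.symm
      · rw [← h.sqQ ⟨hq, mem_Ce.2 e'⟩ hv, inv_mul_cancel_left, mul_inv_eq_iff_eq_mul] at a1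
        exact hv (h'.QCt.le ⟨hq, mem_Ce.2 a1.symm⟩)
    refine h.cs' hq e' hx ?_
    rw [show ⁅q * u, q⁆ = q * (u * q * u⁻¹) * q⁻¹ * q⁻¹ by rw [commutatorElement_def]; group, a1,
      mul_inv_cancel_left, mul_assoc, ← mul_inv_rev]
    exact mul_mem (mem_zpowers z) (inv_mem (h.wq.sq q hq))
  · obtain ⟨q, hq, u, hu, rfl⟩ := h.QU hx
    rw [show q * u * (q * u) = q * (u * q * u⁻¹) * (u * u) by group, h.Usq hu, mul_one]
    exact mul_mem hq (h.wq.conj_mem (h.Rz hu.1) hq)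
  · obtain ⟨q, hq, u, hu, rfl⟩ := h.QU hx
    exact ⟨q⁻¹, inv_mem hq, by rw [inv_mul_cancel_left, h.Usq hu]⟩
  obtain ⟨c, hc, rfl⟩ := (h.invT hy h2).resolve_left h1
  obtain ⟨n, hn, n1, n2, n3⟩ := h.exists_n
  have c0 : c * z * c⁻¹ = z := by rw [mem_Ce.1 hc, mul_inv_cancel_right]
  have a1 : c * s * c⁻¹ ∈ Om Q z := (h.wq.norm_Om hc s).1 h.sOm
  have a2 : c * t * c⁻¹ * (c * s * c⁻¹) = c * s * c⁻¹ * (c * t * c⁻¹) := by
    rw [conj_mul, conj_mul, h.Rs h.tR]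
  have a3 : ∀ x, x * z = z * x → x * (c * s * c⁻¹) = c * s * c⁻¹ * x → x * s = s * x :=
    fun x e1 e2 => by
      rcases (H11.mem_four_iff h.wq.zz a1.2.1 (h.wq.cent _ a1.1).symm).1 ((h.wq.main a1).2 s h.l.tQ
        (by_contra fun e => h1 (cs _ a1 (Ne.symm e) _ hy (by
          rw [commutatorElement_eq_one_iff_mul_comm.2 a2]; exact one_mem _))) h.wp.zz) with
        e | e | e | e <;> rw [e]
      · simp
      · exact e1
      · exact e2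
      · exact Commute.mul_right e1 e2
  have a4 := h.wq.conj_mem (mem_Ce.1 hc) hn
  refine ⟨a3 _ (cz _ hy) a2, ⟨_, a4, by rw [conj_mul, n1, c0], a3 _ (h.wq.cent _ a4) (by
    rw [conj_mul, conj_mul, n2]), ?_⟩, fun x hx e => ?_⟩
  · rw [conj_inv, conj_mul, conj_mul, n3, ← conj_mul, c0]
  · have := h.Asq (h.CH.le ⟨Ce_conj (mem_Ce.2 e), (Ce z).mul_mem ((Ce z).mul_mem
      ((Ce z).inv_mem hc) (mem_Ce.2 (cz x hx))) hc⟩)
    calc _ = c * (c⁻¹ * x * c * (c⁻¹ * x * c)) * c⁻¹ := by group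
      _ = 1 := by rw [this]; group

end JD

theorem SY.transfer {G' : Type*} [Group G'] [Finite G'] {S Q : Subgroup G} {z s : G}
    (h : SY S Q z s) (φ : S →* G') (hφ : Function.Injective φ) :
    SY φ.range ((Q.subgroupOf S).map φ) (φ ⟨z, h.le h.mem⟩) (φ ⟨s, h.le h.sOm.1⟩) := by
  set z0 : S := ⟨z, h.le h.mem⟩
  set s0 : S := ⟨s, h.le h.sOm.1⟩
  have mQ : ∀ x : S, φ x ∈ (Q.subgroupOf S).map φ ↔ x.1 ∈ Q := fun x => mem_map_iff_mem hφ
  have eq : ∀ x y : S, φ x = φ y ↔ x.1 = y.1 := fun x y => hφ.eq_iff.trans Subtype.ext_iff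
  have e1 : ∀ x : S, φ x = 1 ↔ x.1 = 1 := fun x => φ.map_one ▸ eq x 1
  have zp : ∀ x : S, φ x ∈ zpowers (φ z0) ↔ x.1 ∈ zpowers z := fun x => by
    rw [← MonoidHom.map_zpowers, mem_map_iff_mem hφ, ← mem_map_iff_mem S.subtype_injective,
      MonoidHom.map_zpowers]; rfl
  have vs : ∀ x a : S, φ x ∈ Vs (φ z0) (φ a) ↔ x.1 ∈ Vs z a := fun x a => by
    rw [Vs, ← Set.image_pair, ← MonoidHom.map_closure, mem_map_iff_mem hφ,
      ← mem_map_iff_mem S.subtype_injective, MonoidHom.map_closure, Set.image_pair]; rfl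
  have om : ∀ x : S, φ x ∈ Om ((Q.subgroupOf S).map φ) (φ z0) ↔ x.1 ∈ Om Q z := fun x =>
    and_congr (mQ x) (and_congr (by rw [← map_mul, e1]; rfl) (zp x).not)
  have fQ : ∀ p : G' → Prop, (∀ q ∈ (Q.subgroupOf S).map φ, p q) ↔ ∀ q : S, q.1 ∈ Q → p (φ q) :=
    fun p => ⟨fun e q hq => e _ ⟨q, hq, rfl⟩, fun e _ ⟨q, hq, e'⟩ => e' ▸ e q hq⟩
  have fO : ∀ p : G' → Prop, (∀ q ∈ Om ((Q.subgroupOf S).map φ) (φ z0), p q) ↔
      ∀ q : S, q.1 ∈ Om Q z → p (φ q) := fun p => ⟨fun e q hq => e _ ((om q).2 hq),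
        fun e q hq => by obtain ⟨q, -, rfl⟩ := hq.1; exact e q ((om q).1 hq)⟩
  have fS : ∀ p : G' → Prop, (∀ q ∈ φ.range, p q) ↔ ∀ q : S, p (φ q) :=
    fun p => ⟨fun e q => e _ ⟨q, rfl⟩, fun e _ ⟨q, e'⟩ => e' ▸ e q⟩
  have zc : ∀ x ∈ (Q.subgroupOf S).map φ, (∀ q ∈ (Q.subgroupOf S).map φ, q * x = x * q) →
      x ∈ zpowers (φ z0) := by
    simp only [fQ, ← map_mul, eq, zp]
    exact fun x hx e => h.zc x hx fun q hq => e ⟨q, h.le hq⟩ hq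
  refine ⟨⟨⟨(orderOf_injective φ hφ z0).trans ((orderOf_mk _ _).trans h.ord), (mQ z0).2 h.mem, ?_,
    ?_, fun x hx e _ => zc x hx e⟩, zc, _, (mQ s0).2 h.sOm.1, (zp s0).not.2 h.sOm.2.2⟩,
    map_le_range _ _, (Nat.card_congr (MonoidHom.ofInjective hφ).toEquiv).symm.trans h.cS,
    by rw [card_map_of_injective hφ, H1.card_subgroupOf_of_le h.le, h.cq], ?_, ?_,
    (om s0).2 h.sOm, ?_, ?_, ?_, ?_, ?_, ?_, ?_, ?_⟩
  any_goals simp only [fQ, fS, fO, ← map_mul, ← map_inv, eq, zp, mQ, vs, e1, Ne,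
    ← map_commutatorElement]
  · exact fun q hq => h.cent q hq
  · exact fun q hq => h.sq q hq
  · exact fun x q hq => h.nQ x x.2 q hq
  · exact fun x => h.cz x x.2
  · rw [← h.om, show Om Q z = S.subtype '' {x | x.1 ∈ Om Q z} from Set.ext fun x =>
      ⟨fun e => ⟨⟨x, h.le e.1⟩, e, rfl⟩, fun ⟨_, e, e'⟩ => e' ▸ e⟩,
      Set.ncard_image_of_injective _ S.subtype_injective, ← Set.ncard_image_of_injective _ hφ]
    congr 1
    ext x
    exact ⟨fun e => by obtain ⟨q, -, rfl⟩ := e.1; exact ⟨q, (om q).1 e, rfl⟩,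
      fun ⟨q, e, e'⟩ => e' ▸ (om q).2 e⟩
  · exact fun a ha x hx => h.main a ha x hx
  · exact fun x => h.sS x x.2
  · exact fun x => h.root x x.2
  · exact fun x => h.sqQ x x.2
  · exact fun a ha e x => h.cs a ha e x x.2
  · intro x
    obtain ⟨q, hq, e⟩ := h.coset x x.2
    exact ⟨φ ⟨q, h.le hq⟩, (mQ _).2 hq, by rw [← map_mul, ← map_mul, e1]; exact e⟩
  · intro t h1 h2
    obtain ⟨a1, ⟨n, hn, a2⟩, a3⟩ := h.out t t.2 h1 h2
    refine ⟨a1, ⟨φ ⟨n, h.le hn⟩, (mQ _).2 hn, ?_⟩, fun x => a3 x x.2⟩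
    simp only [← map_mul, ← map_inv, eq]
    exact a2

end Cfsg.Agent.J2T
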